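import Groth.Prelude.Def_W4c5quivmodgenus0Quiv
import Mathlib.LinearAlgebra.FiniteDimensional.Lemmas
import Mathlib.LinearAlgebra.Dimension.Constructions
import Mathlib.LinearAlgebra.FiniteDimensional.Basic
import Mathlib.Algebra.Order.BigOperators.Group.Finset
import Mathlib.Algebra.BigOperators.Field
import Mathlib.Tactic.FinCases
import Mathlib.Tactic.FieldSimp
import Mathlib.Tactic.Linarith
import Mathlib.Tactic.Ring

/-! Stability for the point quivers. -/

namespace Groth.Agent.PtQuivLib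

open Module

variable {K : Type*} [Field K]

theorem exists_span_of_finrank_le_one {L : Submodule K (Fin 2 → K)} (h : finrank K L ≤ 1) :
    ∃ v, L = K ∙ v := by
  rcases (by omega : finrank K L = 0 ∨ finrank K L = 1) with h' | h'
  · exact ⟨0, by rw [Submodule.finrank_eq_zero.1 h', Submodule.span_zero_singleton]⟩
  · obtain ⟨v, -, hspan⟩ := finrank_eq_one_iff'.1 h'
    refine ⟨(v : Fin 2 → K), le_antisymm (fun x hx => ?_) ?_⟩
    · obtain ⟨c, hc⟩ := hspan ⟨x, hx⟩
      exact Submodule.mem_span_singleton.2 ⟨c, congrArg Subtype.val hc⟩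
    · exact (Submodule.span_singleton_le_iff_mem _ _).2 (Subtype.coe_prop _)

theorem finrank_cases (L : Submodule K (Fin 2 → K)) :
    finrank K L = 0 ∧ L = ⊥ ∨ finrank K L = 1 ∨ finrank K L = 2 ∧ L = ⊤ := by
  have h := L.finrank_le
  rw [Module.finrank_fin_fun] at h
  rcases (by omega : finrank K L = 0 ∨ finrank K L = 1 ∨ finrank K L = 2) with h' | h' | h'
  · exact Or.inl ⟨h', Submodule.finrank_eq_zero.1 h'⟩
  · exact Or.inr (Or.inl h')
  · exact Or.inr (Or.inr ⟨h', Submodule.eq_top_of_finrank_eq (by rw [h', Module.finrank_fin_fun])⟩)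

variable {ι : Type*} [Fintype ι] {s : ι → (Fin 2 → K)} {θ : ι → ℚ}

theorem qSemistable_iff (hs : ∀ i, s i ≠ 0) (h0 : ∀ i, 0 ≤ θ i) (h2 : ∑ i, θ i = 2) :
    PtQuiv.QSemistable (-1) θ s ↔
      ∀ (J : Finset ι) (v : Fin 2 → K), (∀ i ∈ J, s i ∈ K ∙ v) → ∑ i ∈ J, θ i ≤ 1 := by
  constructor
  · rintro ⟨-, h⟩ J v hJ
    have := h (K ∙ v) J hJ
    rcases eq_or_ne v 0 with rfl | hv
    · rcases J.eq_empty_or_nonempty with rfl | ⟨i, hi⟩
      · simp
      · exact absurd (by simpa using hJ i hi) (hs i)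
    · rw [PtQuiv.QWt, finrank_span_singleton hv] at this
      push_cast at this; linarith
  · intro h
    refine ⟨by linarith, fun L I hLI => ?_⟩
    rw [PtQuiv.QWt]
    rcases finrank_cases L with ⟨hd, hb⟩ | hd | ⟨hd, -⟩
    · subst hb
      have : I = ∅ := Finset.eq_empty_of_forall_notMem fun i hi => hs i ((Submodule.mem_bot K).1 (hLI i hi))
      rw [this, hd]; simp
    · obtain ⟨v, rfl⟩ := exists_span_of_finrank_le_one hd.le
      rw [hd]; push_cast
      linarith [h I v hLI]
    · rw [hd]; push_cast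
      have : ∑ i ∈ I, θ i ≤ 2 := h2 ▸ Finset.sum_le_univ_sum_of_nonneg h0
      linarith

theorem span_eq_of_mem {v w : Fin 2 → K} (hw : w ≠ 0) (h : w ∈ K ∙ v) : K ∙ w = K ∙ v := by
  obtain ⟨c, rfl⟩ := Submodule.mem_span_singleton.1 h
  exact Submodule.span_singleton_smul_eq (IsUnit.mk0 c fun hc => hw (by simp [hc])) v

theorem exists_qStable_iff (hs : ∀ i, s i ≠ 0) :
    (∃ θ : ι → ℚ, (∀ i, 0 ≤ θ i) ∧ (∀ i, θ i ≤ 1) ∧ ∑ i, θ i = 2 ∧ PtQuiv.QStable (-1) θ s) ↔
      ∃ i j k : ι, s i ∉ K ∙ s j ∧ s j ∉ K ∙ s k ∧ s i ∉ K ∙ s k := by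
  classical
  constructor
  · rintro ⟨θ, h0, -, h2, hss, hst⟩
    have hline : ∀ i : ι, ∑ l ∈ Finset.univ.filter (fun l => s l ∈ K ∙ s i), θ l < 1 := by
      intro i
      have hle := (qSemistable_iff hs h0 h2).1 hss (Finset.univ.filter fun l => s l ∈ K ∙ s i) (s i)
        (fun l hl => (Finset.mem_filter.1 hl).2)
      refine lt_of_le_of_ne hle fun heq => ?_
      have h1 : finrank K (K ∙ s i) = 1 := finrank_span_singleton (hs i)
      rcases hst (K ∙ s i) _ (fun l hl => (Finset.mem_filter.1 hl).2)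
        (by rw [PtQuiv.QWt, h1, heq]; simp) with ⟨hc, -⟩ | ⟨hc, -⟩
      · rw [hc, finrank_bot] at h1; omega
      · rw [hc, finrank_top, Module.finrank_fin_fun] at h1; omega
    obtain ⟨i⟩ : Nonempty ι := by
      by_contra hne
      rw [not_nonempty_iff] at hne
      rw [Finset.univ_eq_empty, Finset.sum_empty] at h2; norm_num at h2
    have hsplit := Finset.sum_filter_add_sum_filter_not Finset.univ (fun l => s l ∈ K ∙ s i) θ
    obtain ⟨j, hj⟩ : ∃ j, s j ∉ K ∙ s i := by
      by_contra hc; push Not at hc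
      have := hline i
      rw [Finset.filter_true_of_mem (fun l _ => hc l), h2] at this; norm_num at this
    obtain ⟨k, hk, hk'⟩ : ∃ k, s k ∉ K ∙ s i ∧ s k ∉ K ∙ s j := by
      by_contra hc; push Not at hc
      have hsub : Finset.univ.filter (fun l => ¬ s l ∈ K ∙ s i) ⊆ Finset.univ.filter (fun l => s l ∈ K ∙ s j) :=
        fun l hl => Finset.mem_filter.2 ⟨Finset.mem_univ l, hc l (Finset.mem_filter.1 hl).2⟩
      have := Finset.sum_le_sum_of_subset_of_nonneg hsub fun l _ _ => h0 l
      have := hline i; have := hline j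
      linarith
    exact ⟨k, j, i, hk', hj, hk⟩
  · rintro ⟨i, j, k, hij, hjk, hik⟩
    let cls : ι → Submodule K (Fin 2 → K) := fun l => K ∙ s l
    let C := Finset.univ.image cls
    let fib : Submodule K (Fin 2 → K) → Finset ι := fun L => Finset.univ.filter fun l => cls l = L
    have hmem : ∀ l, l ∈ fib (cls l) := fun l => Finset.mem_filter.2 ⟨Finset.mem_univ l, rfl⟩
    have hC : 3 ≤ C.card := by
      have hne : ∀ a b : ι, s a ∉ K ∙ s b → cls a ≠ cls b := fun a b h heq =>
        h (show s a ∈ cls b from heq ▸ Submodule.mem_span_singleton_self (s a))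
      have hsub : ({cls i, cls j, cls k} : Finset _) ⊆ C := by
        intro L hL
        simp only [Finset.mem_insert, Finset.mem_singleton] at hL
        rcases hL with rfl | rfl | rfl <;> exact Finset.mem_image_of_mem _ (Finset.mem_univ _)
      have := Finset.card_le_card hsub
      rwa [Finset.card_eq_three.2 ⟨_, _, _, hne i j hij, hne i k hik, hne j k hjk, rfl⟩] at this
    have hCq : (3 : ℚ) ≤ C.card := by exact_mod_cast hC
    let θ : ι → ℚ := fun l => 2 / (C.card * (fib (cls l)).card)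
    have hpos : ∀ l, 0 < θ l := fun l => by
      have : (0 : ℚ) < (fib (cls l)).card := by exact_mod_cast Finset.card_pos.2 ⟨l, hmem l⟩
      show 0 < 2 / ((C.card : ℚ) * (fib (cls l)).card)
      exact div_pos (by norm_num) (mul_pos (by linarith) this)
    have hfib : ∀ L ∈ C, ∑ l ∈ fib L, θ l = 2 / C.card := by
      intro L hL
      obtain ⟨l, -, rfl⟩ := Finset.mem_image.1 hL
      rw [Finset.sum_congr rfl (g := fun _ => θ l) fun x hx => by
        show (2 : ℚ) / (C.card * (fib (cls x)).card) = _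
        rw [(Finset.mem_filter.1 hx).2]]
      rw [Finset.sum_const, nsmul_eq_mul]
      have : ((fib (cls l)).card : ℚ) ≠ 0 := by exact_mod_cast Finset.card_ne_zero.2 ⟨l, hmem l⟩
      show ((fib (cls l)).card : ℚ) * (2 / (C.card * (fib (cls l)).card)) = _
      field_simp
    have htot : ∑ l, θ l = 2 := by
      rw [← Finset.sum_fiberwise_of_maps_to (g := cls) (t := C) fun l _ => Finset.mem_image_of_mem _ (Finset.mem_univ l),
        Finset.sum_congr rfl hfib, Finset.sum_const, nsmul_eq_mul]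
      field_simp
    have hlt : ∀ (J : Finset ι) (v : Fin 2 → K), (∀ l ∈ J, s l ∈ K ∙ v) → ∑ l ∈ J, θ l < 1 := by
      intro J v hJ
      rcases J.eq_empty_or_nonempty with rfl | ⟨l, hl⟩
      · simp
      · have hsub : J ⊆ fib (cls l) := fun x hx => Finset.mem_filter.2 ⟨Finset.mem_univ x,
          (span_eq_of_mem (hs x) (hJ x hx)).trans (span_eq_of_mem (hs l) (hJ l hl)).symm⟩
        calc ∑ x ∈ J, θ x ≤ ∑ x ∈ fib (cls l), θ x :=
              Finset.sum_le_sum_of_subset_of_nonneg hsub fun x _ _ => (hpos x).le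
          _ = 2 / C.card := hfib _ (Finset.mem_image_of_mem _ (Finset.mem_univ l))
          _ < 1 := by rw [div_lt_iff₀ (by linarith)]; linarith
    have h0 : ∀ l, 0 ≤ θ l := fun l => (hpos l).le
    refine ⟨θ, h0, fun l => ?_, htot, (qSemistable_iff hs h0 htot).2 fun J v h => (hlt J v h).le, ?_⟩
    · have := hlt {l} (s l) (by simp [Submodule.mem_span_singleton_self])
      rw [Finset.sum_singleton] at this; linarith
    · intro L I hLI hw
      rw [PtQuiv.QWt] at hw
      rcases finrank_cases L with ⟨hd, rfl⟩ | hd | ⟨hd, rfl⟩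
      · exact Or.inl ⟨rfl, Finset.eq_empty_of_forall_notMem fun l hl => hs l ((Submodule.mem_bot K).1 (hLI l hl))⟩
      · obtain ⟨v, rfl⟩ := exists_span_of_finrank_le_one hd.le
        rw [hd] at hw; push_cast at hw
        linarith [hlt I v hLI]
      · refine Or.inr ⟨rfl, Finset.eq_univ_iff_forall.2 fun l => by_contra fun hl => ?_⟩
        rw [hd] at hw; push_cast at hw
        have := Finset.sum_lt_sum_of_subset (Finset.subset_univ I) (Finset.mem_univ l) hl (hpos l) fun x _ _ => h0 x
        linarith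

end Groth.Agent.PtQuivLib
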