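import Groth.Agent.PtQuivLib.Basic
import Mathlib.LinearAlgebra.LinearIndependent.Lemmas
import Mathlib.LinearAlgebra.Basis.VectorSpace
import Mathlib.Algebra.BigOperators.Fin
import Mathlib.Tactic.Positivity

/-! Passage from the quiver `Q` to the quiver `P` by a choice of coordinates. -/

namespace Groth.Agent.PtQuivLib

open Module

variable {K : Type*} [Field K] {κ : Type*} [Fintype κ] [DecidableEq κ] {a b : κ} {s : κ → (Fin 2 → K)}
  {θ : κ → ℚ}

local notation "ι'" => {i : κ // i ≠ a ∧ i ≠ b}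

/-- The sub-index set. -/
def restr (a b : κ) (I : Finset κ) : Finset {i : κ // i ≠ a ∧ i ≠ b} :=
  Finset.univ.filter fun i => i.1 ∈ I

theorem sum_restr (f : κ → ℚ) (hab : a ≠ b) (I : Finset κ) :
    ∑ i ∈ I, f i = (if a ∈ I then f a else 0) + (if b ∈ I then f b else 0) + ∑ i ∈ restr a b I, f i.1 := by
  classical
  have h1 : ∑ i ∈ restr a b I, f i.1 = ∑ i ∈ I.filter (fun i => i ≠ a ∧ i ≠ b), f i := by
    refine Finset.sum_bij (fun i _ => i.1) ?_ ?_ ?_ ?_
    · intro i hi; exact Finset.mem_filter.2 ⟨(Finset.mem_filter.1 hi).2, i.2⟩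
    · intro i _ j _ h; exact Subtype.ext h
    · intro i hi
      exact ⟨⟨i, (Finset.mem_filter.1 hi).2⟩, Finset.mem_filter.2 ⟨Finset.mem_univ _, (Finset.mem_filter.1 hi).1⟩, rfl⟩
    · intros; rfl
  have h2 : ∑ i ∈ I.filter (fun i => ¬ (i ≠ a ∧ i ≠ b)), f i =
      (if a ∈ I then f a else 0) + (if b ∈ I then f b else 0) := by
    have : I.filter (fun i => ¬ (i ≠ a ∧ i ≠ b)) = ({a, b} : Finset κ).filter (· ∈ I) := by
      ext i; simp only [Finset.mem_filter, Finset.mem_insert, Finset.mem_singleton]; tauto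
    rw [this, Finset.sum_filter, Finset.sum_pair hab]
  rw [h1, ← h2, add_comm, Finset.sum_filter_add_sum_filter_not]

omit [Fintype κ] [DecidableEq κ] in
theorem coeff_unique (hi : LinearIndependent K ![s a, s b]) {x y x' y' : K}
    (h : x • s a + y • s b = x' • s a + y' • s b) : x = x' ∧ y = y' :=
  hi.eq_of_pair h

omit [DecidableEq κ] in
theorem exists_coord (hi : LinearIndependent K ![s a, s b]) :
    ∃ t : {i : κ // i ≠ a ∧ i ≠ b} → (Fin 2 → K), ∀ i, s i.1 = t i 0 • s a + t i 1 • s b := by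
  let B := basisOfLinearIndependentOfCardEqFinrank hi (by rw [Module.finrank_fin_fun, Fintype.card_fin])
  refine ⟨fun i => ![B.repr (s i.1) 0, B.repr (s i.1) 1], fun i => ?_⟩
  have h := B.sum_repr (s i.1)
  rw [Fin.sum_univ_two] at h
  simpa [B] using h.symm

omit [Fintype κ] [DecidableEq κ] in
theorem mem_span_left {t : ι' → (Fin 2 → K)} (ht : ∀ i, s i.1 = t i 0 • s a + t i 1 • s b)
    (hi : LinearIndependent K ![s a, s b]) (i : ι') : s i.1 ∈ K ∙ s a ↔ t i 1 = 0 := by
  constructor
  · intro h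
    obtain ⟨c, hc⟩ := Submodule.mem_span_singleton.1 h
    exact ((coeff_unique hi (x := c) (y := 0) (x' := t i 0) (y' := t i 1) (by rw [zero_smul, add_zero, hc, ← ht i])).2).symm
  · intro h
    rw [ht i, h, zero_smul, add_zero]
    exact Submodule.smul_mem _ _ (Submodule.mem_span_singleton_self _)

omit [Fintype κ] [DecidableEq κ] in
theorem mem_span_right {t : ι' → (Fin 2 → K)} (ht : ∀ i, s i.1 = t i 0 • s a + t i 1 • s b)
    (hi : LinearIndependent K ![s a, s b]) (i : ι') : s i.1 ∈ K ∙ s b ↔ t i 0 = 0 := by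
  constructor
  · intro h
    obtain ⟨c, hc⟩ := Submodule.mem_span_singleton.1 h
    exact ((coeff_unique hi (x := 0) (y := c) (x' := t i 0) (y' := t i 1) (by rw [zero_smul, zero_add, hc, ← ht i])).1).symm
  · intro h
    rw [ht i, h, zero_smul, zero_add]
    exact Submodule.smul_mem _ _ (Submodule.mem_span_singleton_self _)

variable (hab : a ≠ b) (h0 : ∀ i, 0 ≤ θ i) (h1 : ∀ i, θ i ≤ 1) (h2 : ∑ i, θ i = 2)
  (hθ : 1 < θ a + θ b) (hθ' : θ a + θ b < 2)

include hab h0 h2 hθ in
theorem indep_of_qSemistable (h : PtQuiv.QSemistable (-1) θ s) : LinearIndependent K ![s a, s b] := by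
  classical
  by_contra hc
  obtain ⟨L, hL, ha, hb⟩ : ∃ L : Submodule K (Fin 2 → K), finrank K L ≤ 1 ∧ s a ∈ L ∧ s b ∈ L := by
    by_cases ha : s a = 0
    · refine ⟨K ∙ s b, ?_, by simp [ha], Submodule.mem_span_singleton_self _⟩
      by_cases hb : s b = 0
      · rw [hb, Submodule.span_zero_singleton, finrank_bot]; exact Nat.zero_le 1
      · rw [finrank_span_singleton hb]
    · rw [LinearIndependent.pair_iff' ha] at hc
      push Not at hc
      obtain ⟨c, hc⟩ := hc
      exact ⟨K ∙ s a, by rw [finrank_span_singleton ha], Submodule.mem_span_singleton_self _,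
        Submodule.mem_span_singleton.2 ⟨c, hc⟩⟩
  have := h.2 L {a, b} (by intro i hi; simp at hi; rcases hi with rfl | rfl <;> assumption)
  rw [PtQuiv.QWt, Finset.sum_pair hab] at this
  have : (finrank K L : ℚ) ≤ 1 := by exact_mod_cast hL
  linarith

/-- The rescaling factor. -/
local notation "cc" => (2 - θ a - θ b)⁻¹

/-- The weight on the vertices of `P`. -/
local notation "η'" => ![cc * (θ a - 1), cc * (θ b - 1)]

omit [Fintype κ] [DecidableEq κ] in
theorem pWt_eq (U : Fin 2 → Submodule K K) (J : Finset ι') :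
    PtQuiv.PWt K η' (fun i : ι' => cc * θ i.1) U J =
      cc * ((θ a - 1) * finrank K (U 0) + (θ b - 1) * finrank K (U 1) + ∑ i ∈ J, θ i.1) := by
  rw [PtQuiv.PWt, Fin.sum_univ_two, ← Finset.mul_sum]
  simp only [Matrix.cons_val_zero, Matrix.cons_val_one]
  ring

include hab h2 in
theorem sum_rest : ∑ i : ι', θ i.1 = 2 - θ a - θ b := by
  have := sum_restr θ hab Finset.univ
  rw [h2, if_pos (Finset.mem_univ a), if_pos (Finset.mem_univ b)] at this
  have e : restr a b (Finset.univ : Finset κ) = Finset.univ := by ext; simp [restr]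
  rw [e] at this
  linarith

include hab h2 hθ' in
theorem pTotal : (∑ j, η' j) + ∑ i : ι', cc * θ i.1 = 0 := by
  rw [Fin.sum_univ_two, ← Finset.mul_sum, sum_rest hab h2]
  simp only [Matrix.cons_val_zero, Matrix.cons_val_one]
  field_simp
  ring

omit [Fintype κ] [DecidableEq κ] in
theorem bot_or_top (U : Submodule K K) : U = ⊥ ∨ U = ⊤ := eq_bot_or_eq_top U

/-- The subrepresentation of `Q` attached to one of `P`. -/
abbrev qOf (a b : κ) (s : κ → (Fin 2 → K)) (U : Fin 2 → Submodule K K) : Submodule K (Fin 2 → K) :=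
  (U 0).map (LinearMap.toSpanSingleton K _ (s a)) ⊔ (U 1).map (LinearMap.toSpanSingleton K _ (s b))

/-- The index set of the subrepresentation of `Q` attached to one of `P`. -/
noncomputable def qIdx (a b : κ) (U : Fin 2 → Submodule K K) (J : Finset {i : κ // i ≠ a ∧ i ≠ b}) : Finset κ := by
  classical
  exact (J.map (Function.Embedding.subtype _)) ∪ (({a, b} : Finset κ).filter fun i => (i = a ∧ U 0 = ⊤) ∨ (i = b ∧ U 1 = ⊤))

include hab in
theorem restr_qIdx (U : Fin 2 → Submodule K K) (J : Finset ι') :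
    (a ∈ qIdx a b U J ↔ U 0 = ⊤) ∧ (b ∈ qIdx a b U J ↔ U 1 = ⊤) ∧ restr a b (qIdx a b U J) = J := by
  classical
  refine ⟨?_, ?_, ?_⟩
  · simp [qIdx, hab]
  · simp [qIdx, hab.symm]
  · ext ⟨i, hia, hib⟩; simp [qIdx, restr, hia, hib]

omit [Fintype κ] [DecidableEq κ] in
theorem toSpan_map_top (x : Fin 2 → K) :
    (⊤ : Submodule K K).map (LinearMap.toSpanSingleton K _ x) = K ∙ x := by
  rw [Submodule.map_top, ← LinearMap.span_singleton_eq_range]

omit [Fintype κ] [DecidableEq κ] in
theorem finrank_qOf (hi : LinearIndependent K ![s a, s b]) (U : Fin 2 → Submodule K K) :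
    finrank K (qOf a b s U) = finrank K (U 0) + finrank K (U 1) := by
  have ha : s a ≠ 0 := hi.ne_zero 0
  have hb : s b ≠ 0 := hi.ne_zero 1
  suffices key : ∀ X Y : Submodule K K,
      finrank K ↥(X.map (LinearMap.toSpanSingleton K _ (s a)) ⊔ Y.map (LinearMap.toSpanSingleton K _ (s b))) =
        finrank K X + finrank K Y from key _ _
  intro X Y
  rcases bot_or_top X with rfl | rfl <;> rcases bot_or_top Y with rfl | rfl
  · rw [Submodule.map_bot, Submodule.map_bot, bot_sup_eq, finrank_bot, finrank_bot]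
  · rw [Submodule.map_bot, toSpan_map_top, bot_sup_eq, finrank_bot, finrank_top, Module.finrank_self,
      finrank_span_singleton hb]
  · rw [Submodule.map_bot, toSpan_map_top, sup_bot_eq, finrank_bot, finrank_top, Module.finrank_self,
      finrank_span_singleton ha]
  · rw [toSpan_map_top, toSpan_map_top, finrank_top, Module.finrank_self, ← Submodule.span_union,
      show ({s a} ∪ {s b} : Set (Fin 2 → K)) = Set.range ![s a, s b] by
    simp [Matrix.range_cons, Matrix.range_empty], finrank_span_eq_card hi, Fintype.card_fin]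

variable {t : {i : κ // i ≠ a ∧ i ≠ b} → (Fin 2 → K)}
  (ht : ∀ i : {i : κ // i ≠ a ∧ i ≠ b}, s i.1 = t i 0 • s a + t i 1 • s b)

include hab ht in
theorem qSubrep_qIdx {U : Fin 2 → Submodule K K} {J : Finset ι'} (h : PtQuiv.PSubrep t U J) :
    PtQuiv.QSubrep s (qOf a b s U) (qIdx a b U J) := by
  classical
  obtain ⟨hA, hB, hJ⟩ := restr_qIdx hab U J
  intro i hi
  by_cases hia : i = a
  · subst hia
    exact Submodule.mem_sup_left ⟨1, (hA.1 hi).symm ▸ Submodule.mem_top, by simp⟩
  by_cases hib : i = b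
  · subst hib
    exact Submodule.mem_sup_right ⟨1, (hB.1 hi).symm ▸ Submodule.mem_top, by simp⟩
  have hiJ : (⟨i, hia, hib⟩ : ι') ∈ restr a b (qIdx a b U J) := Finset.mem_filter.2 ⟨Finset.mem_univ _, hi⟩
  rw [hJ] at hiJ
  rw [ht ⟨i, hia, hib⟩]
  exact Submodule.add_mem _ (Submodule.mem_sup_left ⟨_, h _ hiJ 0, by simp⟩)
    (Submodule.mem_sup_right ⟨_, h _ hiJ 1, by simp⟩)

include hab in
theorem qWt_qOf (hi : LinearIndependent K ![s a, s b]) (U : Fin 2 → Submodule K K) (J : Finset ι') :
    PtQuiv.QWt K (-1) θ (qOf a b s U) (qIdx a b U J) =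
      (θ a - 1) * finrank K (U 0) + (θ b - 1) * finrank K (U 1) + ∑ i ∈ J, θ i.1 := by
  classical
  obtain ⟨hA, hB, hJ⟩ := restr_qIdx hab U J
  rw [PtQuiv.QWt, finrank_qOf hi U, sum_restr θ hab, hJ]
  have hd : ∀ X : Submodule K K, (finrank K X : ℚ) = if X = ⊤ then 1 else 0 := fun X => by
    rcases bot_or_top X with rfl | rfl <;> simp [bot_ne_top, Module.finrank_self]
  push_cast
  rw [hd, hd]
  by_cases e0 : U 0 = ⊤ <;> by_cases e1 : U 1 = ⊤ <;> simp [hA, hB, e0, e1] <;> ring

include hab h0 h1 h2 hθ hθ' ht in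
/-- Every subrepresentation of `Q` has negative weight or comes from one of `P`. -/
theorem qSubrep_cases (hi : LinearIndependent K ![s a, s b]) {L : Submodule K (Fin 2 → K)} {I : Finset κ}
    (h : PtQuiv.QSubrep s L I) :
    PtQuiv.QWt K (-1) θ L I < 0 ∨
    ∃ (U : Fin 2 → Submodule K K) (J : Finset ι'), PtQuiv.PSubrep t U J ∧ L = qOf a b s U ∧ I = qIdx a b U J := by
  classical
  have hθa : 0 < θ a := by linarith [h1 b]
  have hθb : 0 < θ b := by linarith [h1 a]
  have ha0 : s a ≠ 0 := hi.ne_zero 0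
  have hb0 : s b ≠ 0 := hi.ne_zero 1
  have hidx : ∀ U : Fin 2 → Submodule K K, (a ∈ I ↔ U 0 = ⊤) → (b ∈ I ↔ U 1 = ⊤) →
      I = qIdx a b U (restr a b I) := by
    intro U hA hB
    obtain ⟨hA', hB', hJ⟩ := restr_qIdx hab U (restr a b I)
    ext i
    by_cases hia : i = a
    · subst hia; rw [hA, hA']
    by_cases hib : i = b
    · subst hib; rw [hB, hB']
    constructor
    · intro hiI
      have : (⟨i, hia, hib⟩ : ι') ∈ restr a b I := Finset.mem_filter.2 ⟨Finset.mem_univ _, hiI⟩
      rw [← hJ] at this; exact (Finset.mem_filter.1 this).2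
    · intro hiI
      have : (⟨i, hia, hib⟩ : ι') ∈ restr a b (qIdx a b U (restr a b I)) := Finset.mem_filter.2 ⟨Finset.mem_univ _, hiI⟩
      rw [hJ] at this; exact (Finset.mem_filter.1 this).2
  have hrest : ∑ i ∈ restr a b I, θ i.1 ≤ 2 - θ a - θ b := by
    rw [← sum_rest hab h2]
    exact Finset.sum_le_univ_sum_of_nonneg fun i => h0 i.1
  rw [PtQuiv.QWt, sum_restr θ hab]
  rcases finrank_cases L with ⟨hd, hb⟩ | hd | ⟨hd, hb⟩
  · subst hb
    have haI : a ∉ I := fun hc => ha0 ((Submodule.mem_bot K).1 (h a hc))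
    have hbI : b ∉ I := fun hc => hb0 ((Submodule.mem_bot K).1 (h b hc))
    refine Or.inr ⟨fun _ => ⊥, restr a b I, fun i hiI j => ?_, by simp [qOf],
      hidx _ (by simp [haI, bot_ne_top]) (by simp [hbI, bot_ne_top])⟩
    have : s i.1 = 0 := (Submodule.mem_bot K).1 (h _ (Finset.mem_filter.1 hiI).2)
    obtain ⟨e0, e1⟩ := coeff_unique hi (x := t i 0) (y := t i 1) (x' := 0) (y' := 0)
      (by rw [← ht i, this, zero_smul, zero_smul, add_zero])
    rw [Submodule.mem_bot]
    fin_cases j <;> assumption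
  · by_cases haI : a ∈ I
    · have hL : L = K ∙ s a := (Submodule.eq_of_le_of_finrank_eq
        ((Submodule.span_singleton_le_iff_mem _ _).2 (h a haI)) (by rw [finrank_span_singleton ha0, hd])).symm
      have hbI : b ∉ I := fun hc => by
        obtain ⟨c, hc⟩ := Submodule.mem_span_singleton.1 (hL ▸ h b hc)
        exact (LinearIndependent.pair_iff' ha0).1 hi c hc
      refine Or.inr ⟨![⊤, ⊥], restr a b I, fun i hiI j => ?_, by simp [qOf, hL, LinearMap.span_singleton_eq_range],
        hidx _ (by simp [haI]) (by simp [hbI, bot_ne_top])⟩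
      fin_cases j
      · exact Submodule.mem_top
      · exact (Submodule.mem_bot K).2 ((mem_span_left ht hi i).1 (hL ▸ h _ (Finset.mem_filter.1 hiI).2))
    by_cases hbI : b ∈ I
    · have hL : L = K ∙ s b := (Submodule.eq_of_le_of_finrank_eq
        ((Submodule.span_singleton_le_iff_mem _ _).2 (h b hbI)) (by rw [finrank_span_singleton hb0, hd])).symm
      refine Or.inr ⟨![⊥, ⊤], restr a b I, fun i hiI j => ?_, by simp [qOf, hL, LinearMap.span_singleton_eq_range],
        hidx _ (by simp [haI, bot_ne_top]) (by simp [hbI])⟩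
      fin_cases j
      · exact (Submodule.mem_bot K).2 ((mem_span_right ht hi i).1 (hL ▸ h _ (Finset.mem_filter.1 hiI).2))
      · exact Submodule.mem_top
    left
    rw [if_neg haI, if_neg hbI, hd]; push_cast
    linarith
  · by_cases haI : a ∈ I
    · by_cases hbI : b ∈ I
      · refine Or.inr ⟨fun _ => ⊤, restr a b I, fun i _ j => Submodule.mem_top, ?_,
          hidx _ (by simp [haI]) (by simp [hbI])⟩
        rw [hb]
        refine (Submodule.eq_top_of_finrank_eq ?_).symm
        rw [finrank_qOf hi, finrank_top, Module.finrank_self, Module.finrank_fin_fun]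
      · left; rw [if_pos haI, if_neg hbI, hd]; push_cast; linarith
    · left; rw [if_neg haI, hd]; push_cast
      by_cases hbI : b ∈ I
      · rw [if_pos hbI]; linarith
      · rw [if_neg hbI]; linarith

include hab h0 h1 h2 hθ hθ' ht in
theorem qSemistable_iff_p (hi : LinearIndependent K ![s a, s b]) :
    PtQuiv.QSemistable (-1) θ s ↔ PtQuiv.PSemistable η' (fun i : ι' => cc * θ i.1) t := by
  have hc : 0 < cc := inv_pos.2 (by linarith)
  constructor
  · rintro ⟨-, h⟩
    refine ⟨pTotal hab h2 hθ', fun U J hU => ?_⟩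
    rw [pWt_eq, ← qWt_qOf hab hi U J]
    exact mul_nonpos_of_nonneg_of_nonpos hc.le (h _ _ (qSubrep_qIdx hab ht hU))
  · rintro ⟨-, h⟩
    refine ⟨by linarith, fun L I hLI => ?_⟩
    rcases qSubrep_cases hab h0 h1 h2 hθ hθ' ht hi hLI with hn | ⟨U, J, hU, rfl, rfl⟩
    · exact hn.le
    · rw [qWt_qOf hab hi U J]
      have := h U J hU
      rw [pWt_eq] at this
      exact nonpos_of_mul_nonpos_right this hc

include hab h0 h1 h2 hθ hθ' ht in
theorem qStable_iff_p (hi : LinearIndependent K ![s a, s b]) :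
    PtQuiv.QStable (-1) θ s ↔ PtQuiv.PStable η' (fun i : ι' => cc * θ i.1) t := by
  classical
  have hc : cc ≠ 0 := (inv_pos.2 (by linarith)).ne'
  refine and_congr (qSemistable_iff_p hab h0 h1 h2 hθ hθ' ht hi) ⟨fun h U J hU hw => ?_, fun h L I hLI hw => ?_⟩
  · rw [pWt_eq, ← qWt_qOf hab hi U J, mul_eq_zero] at hw
    obtain ⟨hA, hB, hJ⟩ := restr_qIdx hab U J
    rcases h _ _ (qSubrep_qIdx hab ht hU) (hw.resolve_left hc) with ⟨hL, hI⟩ | ⟨hL, hI⟩
    · left
      rw [hI] at hA hB hJ
      refine ⟨funext fun j => ?_, by rw [← hJ]; simp [restr]⟩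
      fin_cases j
      · exact (bot_or_top (U 0)).resolve_right fun e => by simp [e] at hA
      · exact (bot_or_top (U 1)).resolve_right fun e => by simp [e] at hB
    · right
      rw [hI] at hA hB hJ
      refine ⟨funext fun j => ?_, by rw [← hJ]; simp [restr]⟩
      fin_cases j
      · exact hA.1 (Finset.mem_univ a)
      · exact hB.1 (Finset.mem_univ b)
  · rcases qSubrep_cases hab h0 h1 h2 hθ hθ' ht hi hLI with hn | ⟨U, J, hU, rfl, rfl⟩
    · exact absurd hw hn.ne
    rw [qWt_qOf hab hi U J] at hw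
    rcases h U J hU (by rw [pWt_eq, hw, mul_zero]) with ⟨rfl, rfl⟩ | ⟨rfl, rfl⟩
    · left
      refine ⟨by simp [qOf], ?_⟩
      ext i
      simp [qIdx, bot_ne_top]
    · right
      refine ⟨Submodule.eq_top_of_finrank_eq ?_, ?_⟩
      · rw [finrank_qOf hi, Module.finrank_fin_fun]; simp [Module.finrank_self]
      · ext i
        simp only [qIdx, Finset.mem_univ, iff_true, Finset.mem_union, Finset.mem_filter]
        by_cases hia : i = a
        · subst hia; right; simp
        by_cases hib : i = b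
        · subst hib; right; simp
        left
        exact Finset.mem_map.2 ⟨⟨i, hia, hib⟩, Finset.mem_univ _, rfl⟩

end Groth.Agent.PtQuivLib
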